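import Cfsg.Agent.Lib.BrauerStar.NilBij
import Cfsg.Agent.Lib.Characters.Kernel

/-!
# Blocks of `D C(D)` with defect group `D`
-/

set_option autoImplicit false
set_option linter.unusedSectionVars false
set_option linter.style.haveILetI false

namespace Cfsg.Agent.Lib.CentralDefect

open Cfsg Cfsg.Agent.Lib.Blocks Cfsg.Agent.Lib.Characters Cfsg.Agent.Lib.BrauerPairs
  Cfsg.Agent.Lib.BlockHeights Cfsg.Agent.Lib.BrauerStar

universe u

variable {G : Type u} [Group G] [Fintype G] {M : Ideal AlgInt} [hMp : M.IsPrime] {p : ℕ}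
  {B : Set (IrrCharacter G)} {D : Subgroup G}
  {e : Set (IrrCharacter (Subgroup.centralizer (D : Set G)))}

theorem exists_mul_eq (hG : D ⊔ Subgroup.centralizer (D : Set G) = ⊤) (x : G) :
    ∃ d ∈ D, ∃ c ∈ Subgroup.centralizer (D : Set G), d * c = x := by
  have hn : Subgroup.centralizer (D : Set G) ≤ Subgroup.normalizer (D : Set G) :=
    Subgroup.centralizer_le_normalizer _
  have hx : x ∈ ((D ⊔ Subgroup.centralizer (D : Set G) : Subgroup G) : Set G) := by
    rw [hG]; trivial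
  rw [Subgroup.coe_mul_of_right_le_normalizer_left D _ hn] at hx
  obtain ⟨d, hd, c, hc, rfl⟩ := Set.mem_mul.1 hx
  exact ⟨d, hd, c, hc, rfl⟩

theorem conj_mem (hG : D ⊔ Subgroup.centralizer (D : Set G) = ⊤) (x : G) {y : G} (hy : y ∈ D) :
    x * y * x⁻¹ ∈ D := by
  obtain ⟨d, hd, c, hc, rfl⟩ := exists_mul_eq hG x
  rw [show d * c * y * (d * c)⁻¹ = d * (c * y) * c⁻¹ * d⁻¹ by group,
    ← Subgroup.mem_centralizer_iff.1 hc y hy, show d * (y * c) * c⁻¹ * d⁻¹ = d * y * d⁻¹ by group]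
  exact D.mul_mem (D.mul_mem hd hy) (D.inv_mem hd)

theorem isNilpotentBlock (hM : IsPModular p M) (hG : D ⊔ Subgroup.centralizer (D : Set G) = ⊤)
    (hD : IsPGroup p D) (hmax : IsMaximalBrauerPair p M B D e) : IsNilpotentBlock p M B := by
  refine ⟨hmax.1.2.1, fun Q f hf y _ _ hy => ?_⟩
  obtain ⟨x, hx⟩ := exists_conj_subpairLE hM hmax hf
  have hQ : Q ≤ D := fun q hq => by
    have h := conj_mem hG x⁻¹ (subpairLE_le hx ⟨q, hq, rfl⟩)
    simpa [MulAut.conj_apply, mul_assoc] using h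
  refine Subgroup.centralizer_le hQ ?_
  haveI := Fact.mk hM.1
  obtain ⟨k, hk⟩ := IsPGroup.iff_card.1 hD
  haveI : D.Normal := ⟨fun a ha g => conj_mem hG g ha⟩
  obtain ⟨d, hd, c, hc, rfl⟩ := exists_mul_eq hG y
  set C := Subgroup.centralizer (D : Set G)
  have hpow : (d * c) ^ p ^ k ∈ C := by
    rw [← QuotientGroup.eq_one_iff, QuotientGroup.mk_pow, QuotientGroup.mk_mul,
      (QuotientGroup.eq_one_iff c).2 hc, mul_one, ← QuotientGroup.mk_pow, QuotientGroup.eq_one_iff,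
      ← hk, show d ^ Nat.card D = 1 from congrArg Subtype.val (pow_card_eq_one' (x := (⟨d, hd⟩ : D)))]
    exact C.one_mem
  obtain ⟨m, hm⟩ := exists_pow_eq_self_of_coprime (x := d * c) (n := p ^ k)
    ((hM.1.coprime_iff_not_dvd.2 hy).pow_left k)
  rw [← hm]
  exact C.pow_mem hpow m

/-- **The star products are products.** -/
theorem starFun_eq (hM : IsPModular p M) (hG : D ⊔ Subgroup.centralizer (D : Set G) = ⊤)
    {F : FusionSystem D} (hmax : IsMaximalBrauerPair p M B D e)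
    (hF : IsBlockFusionSystemOn p M B D e F) (hin : IsInnerFusion F) {φ : D → ℂ}
    (hφ : IsClassFunction D φ) {χ : IrrCharacter G} (hχ : χ ∈ B) (g : G)
    [Decidable (pElt p g ∈ D)] :
    starFun p M (clsWeight p M e φ) (χ : G → ℂ) g =
      if h : pElt p g ∈ D then φ ⟨pElt p g, h⟩ * (χ : G → ℂ) g else 0 := by
  split_ifs with hu
  · obtain ⟨hk, s, hs, hgs⟩ := exists_eq_mul (p := p) hM.1 g
    conv_rhs =>
      rw [← sum_pieceVal (M := M) (pElt p g) (χ : G → ℂ) g, mul_finsum' _ _ (Set.toFinite _)]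
    show (∑ᶠ f : Bl M (Subgroup.centralizer (SetLike.coe (Subgroup.zpowers (pElt p g)))),
      clsWeight p M e φ (pElt p g) f.1 * pieceVal (pElt p g) f.1 (χ : G → ℂ) g) = _
    refine finsum_congr fun f => ?_
    by_cases hf : IsBrauerPairOf p M B (Subgroup.zpowers (pElt p g)) f.1
    · obtain ⟨x, hx⟩ := exists_conj_subpairLE hM hmax hf
      rw [clsWeight_eq hF hin hφ hx]
      refine congrArg (· * _) ?_
      obtain ⟨d, hd, c, hc, hdc⟩ := exists_mul_eq hG x
      rw [← hφ ⟨pElt p g, hu⟩ ⟨d, hd⟩]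
      refine congrArg φ (Subtype.ext ?_)
      show x * pElt p g * x⁻¹ = d * pElt p g * d⁻¹
      rw [← hdc, show d * c * pElt p g * (d * c)⁻¹ = d * (c * pElt p g) * c⁻¹ * d⁻¹ by group,
        ← Subgroup.mem_centralizer_iff.1 hc _ hu]
      group
    · have h0 : pieceVal (pElt p g) f.1 (χ : G → ℂ) (pElt p g * (s : G)) = 0 := by
        rw [← sect_apply_regular _ f.1 (irr_isClassFunction χ) hs,
          sect_eq_zero_of_not_pair hM hk f.2 hf hmax.1.2.1 hχ]
        rfl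
      rw [← hgs] at h0
      rw [h0, mul_zero, mul_zero]
  · refine finsum_eq_zero_of_forall_eq_zero fun f => ?_
    rw [clsWeight_eq_zero, zero_mul]
    rintro ⟨x, hx⟩
    refine hu ?_
    have h := conj_mem hG x⁻¹ (conj_mem_of_subpairLE hx)
    simpa [mul_assoc] using h

/-- A character with `D` in its kernel ignores factors from `D`. -/
theorem apply_mul_of_mem {χ : IrrCharacter G} (hχD : ∀ y ∈ D, (χ : G → ℂ) y = (χ : G → ℂ) 1)
    {y : G} (hy : y ∈ D) (x : G) : (χ : G → ℂ) (y * x) = (χ : G → ℂ) x := by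
  rw [classFunction_mul_comm (irr_isClassFunction χ)]
  exact IsCharacter.apply_mul_of_mem_kernel (irr_isCharacter χ) (hχD y hy) x

/-- **The members of the block.** -/
theorem main (hM : IsPModular p M) (hG : D ⊔ Subgroup.centralizer (D : Set G) = ⊤)
    (hB : IsPBlock M B) (hBD : IsDefectGroup p M B D) {χ : IrrCharacter G} (hχ : χ ∈ B)
    (hχD : ∀ y ∈ D, (χ : G → ℂ) y = (χ : G → ℂ) 1) :
    let P : IrrCharacter G → IrrCharacter D → Prop := fun θ ζ =>
      (∀ (y : D) (x : G), ¬ p ∣ orderOf x → Commute (y : G) x →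
        (θ : G → ℂ) ((y : G) * x) = (ζ : D → ℂ) y * (χ : G → ℂ) x) ∧
      (∀ z : G, (∀ y : G, IsPPart p z y → y ∉ D) → (θ : G → ℂ) z = 0)
    (∀ θ : IrrCharacter G, θ ∈ B ↔ ∃ ζ, P θ ζ) ∧ ∀ ζ, ∃ θ ∈ B, P θ ζ := by
  classical
  intro P
  haveI := Fact.mk hM.1
  obtain ⟨e, hmax⟩ := exists_maximal_defect hM hB hBD
  have hD := hmax.1.1.1
  have hnil := isNilpotentBlock hM hG hD hmax
  have hF := isBlockFusionSystemOn_blockFusion hM hmax
  have hin : IsInnerFusion (blockFusion hM hmax) := (isNilpotentBlock_iff hM hF).1 hnil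
  have hint := classIntegral_nilBij hM hmax hF hin
  have hloc := localRankOne_of_nilpotent hM hmax hnil
  have hnorms : ∀ χ' ∈ B, blockHeight p B ((χ' : IrrCharacter G) : G → ℂ) = 0 → _ :=
    fun χ' h1 h2 => norms_eq_one hM hmax hF hin hnil hloc h1 h2
  -- `χ` has height zero
  obtain ⟨χ₀, hχ₀, hmin⟩ := exists_nu_eq_minExp (p := p) (IsPBlock.nonempty hB)
  have h00 : blockHeight p B (χ₀ : G → ℂ) = 0 := by
    have := minExp_add_blockHeight (p := p) hχ₀
    omega
  obtain ⟨ζ₀, hζ₀⟩ := exists_cls_preimage hM hmax hF hin hint hχ₀ hmin (hnorms χ₀ hχ₀ h00) hχ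
  have hpe : ∀ y ∈ D, pElt p y = y := fun y hy => pElt_eq hM.1 ⟨1, mul_one y, Commute.one_right y,
    by obtain ⟨k, hk⟩ := IsPGroup.iff_orderOf.1 hD ⟨y, hy⟩; exact ⟨k, by rwa [Subgroup.orderOf_mk] at hk⟩,
    by rw [orderOf_one]; exact hM.1.not_dvd_one⟩
  have hval : ∀ y : D, (ζ₀ : D → ℂ) y * (χ₀ : G → ℂ) y = (ζ₀ : D → ℂ) 1 * (χ₀ : G → ℂ) 1 := by
    intro y
    have key : ∀ z : D, (χ : G → ℂ) z = (ζ₀ : D → ℂ) z * (χ₀ : G → ℂ) z := fun z => by
      rw [hζ₀, starFun_eq hM hG hmax hF hin (irr_isClassFunction ζ₀) hχ₀,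
        dif_pos (by rw [hpe _ z.2]; exact z.2)]
      exact congrArg (fun w => (ζ₀ : D → ℂ) w * _) (Subtype.ext (hpe _ z.2))
    have h1 := key 1
    rw [OneMemClass.coe_one] at h1
    rw [← key, ← h1, hχD _ y.2]
  have hζdeg : charDegree (ζ₀ : D → ℂ) = 1 := by
    have hn : ∀ y : D, ‖(ζ₀ : D → ℂ) y‖ = charDegree (ζ₀ : D → ℂ) := by
      intro y
      have h1 := congrArg norm (hval y)
      rw [norm_mul, norm_mul, irr_apply_one ζ₀, irr_apply_one χ₀, Complex.norm_natCast,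
        Complex.norm_natCast] at h1
      have ha := IsCharacter.norm_le (irr_isCharacter ζ₀) y
      have hb := IsCharacter.norm_le (irr_isCharacter χ₀) (y : G)
      rw [irr_apply_one, Complex.norm_natCast] at ha hb
      have hc : (0 : ℝ) < charDegree (χ₀ : G → ℂ) := Nat.cast_pos.2 (charDegree_irr_pos χ₀)
      nlinarith [norm_nonneg ((ζ₀ : D → ℂ) y), norm_nonneg ((χ₀ : G → ℂ) y)]
    haveI := Fintype.ofFinite D
    have h1 := IsIrrCharacter.classInner_self ζ₀.2
    rw [classInner, inv_mul_eq_one₀ (Nat.cast_ne_zero.2 Nat.card_pos.ne'),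
      Finset.sum_congr rfl (g := fun _ => ((charDegree (ζ₀ : D → ℂ) ^ 2 : ℕ) : ℂ)) fun y _ => by
        rw [Complex.mul_conj, Complex.normSq_eq_norm_sq, hn y]; push_cast; rfl,
      Finset.sum_const, Finset.card_univ, ← Nat.card_eq_fintype_card, nsmul_eq_mul] at h1
    have h2 : Nat.card D * 1 = Nat.card D * charDegree (ζ₀ : D → ℂ) ^ 2 := by
      rw [mul_one]; exact_mod_cast h1
    exact (pow_eq_one_iff.1 (Nat.eq_of_mul_eq_mul_left Nat.card_pos h2).symm).resolve_right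
      two_ne_zero
  have hdegeq : charDegree (χ : G → ℂ) = charDegree (χ₀ : G → ℂ) := by
    have h : (χ : G → ℂ) 1 = (ζ₀ : D → ℂ) 1 * (χ₀ : G → ℂ) 1 := by
      rw [hζ₀]
      exact starFun_cls_regular hM hmax hF hin (irr_isClassFunction ζ₀) hχ₀
        (by rw [orderOf_one]; exact hM.1.not_dvd_one)
    rw [irr_apply_one, irr_apply_one, irr_apply_one, hζdeg, Nat.cast_one, one_mul] at h
    exact_mod_cast h
  have hminχ : nu p (χ : G → ℂ) = minExp p B := by
    rw [← hmin]; simp only [nu, hdegeq]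
  have h0 : blockHeight p B (χ : G → ℂ) = 0 := by
    have := minExp_add_blockHeight (p := p) hχ
    omega
  have hN := hnorms χ hχ h0
  -- star products satisfy the formula
  have hP : ∀ (ζ : IrrCharacter D) (θ : IrrCharacter G),
      (θ : G → ℂ) = starFun p M (clsWeight p M e (ζ : D → ℂ)) (χ : G → ℂ) ↔ P θ ζ := by
    intro ζ θ
    constructor
    · intro hθ
      refine ⟨fun y x hx hc => ?_, fun z hz => ?_⟩
      · have he : pElt p ((y : G) * x) = y := pElt_eq hM.1 ⟨x, rfl, hc,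
          by obtain ⟨k, hk⟩ := IsPGroup.iff_orderOf.1 hD y; exact ⟨k, by rwa [Subgroup.orderOf_coe]⟩, hx⟩
        rw [hθ, starFun_eq hM hG hmax hF hin (irr_isClassFunction ζ) hχ,
          dif_pos (by rw [he]; exact y.2), apply_mul_of_mem hχD y.2]
        exact congrArg (fun w => (ζ : D → ℂ) w * _) (Subtype.ext he)
      · rw [hθ, starFun_eq hM hG hmax hF hin (irr_isClassFunction ζ) hχ,
          dif_neg (hz _ (isPPart_pElt hM.1 z))]
    · intro ⟨h1, h2⟩
      funext g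
      rw [starFun_eq hM hG hmax hF hin (irr_isClassFunction ζ) hχ]
      split_ifs with hu
      · obtain ⟨x, hx, hc, -, hpx⟩ := isPPart_pElt hM.1 g
        have h := h1 ⟨pElt p g, hu⟩ x hpx hc
        rw [hx] at h
        have h3 := apply_mul_of_mem hχD hu x
        rw [hx] at h3
        rw [h, h3]
      · exact h2 g fun y hy => by rwa [← pElt_eq hM.1 hy]
  refine ⟨fun θ => ⟨fun hθ => ?_, fun ⟨ζ, hζ⟩ => ?_⟩, fun ζ => ?_⟩
  · obtain ⟨ζ, hζ⟩ := exists_cls_preimage hM hmax hF hin hint hχ hminχ hN hθ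
    exact ⟨ζ, (hP ζ θ).1 hζ⟩
  · obtain ⟨ψ, hψ, heq⟩ := exists_irr_starFun_cls hM hmax hF hin hint hχ hN ζ
    rwa [show θ = ψ from Subtype.ext (((hP ζ θ).2 hζ).trans heq.symm)]
  · obtain ⟨ψ, hψ, heq⟩ := exists_irr_starFun_cls hM hmax hF hin hint hχ hN ζ
    exact ⟨ψ, hψ, (hP ζ ψ).1 heq⟩

end Cfsg.Agent.Lib.CentralDefect
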